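/-
Additive and quadratic maps of a finite field of characteristic two as combinations of automorphisms.
-/
import Mathlib

set_option autoImplicit false

namespace CfsgLib.Chev.Field

variable {F : Type*} [Field F]

lemma aut_linearIndependent :
    LinearIndependent F (fun σ : F ≃+* F => ((σ : F →+* F) : F → F)) := by
  have h := linearIndependent_monoidHom F F
  have := h.comp (fun σ : F ≃+* F => ((σ : F →+* F) : F →* F)) (fun a b e => RingEquiv.ext fun x => by
    simpa using DFunLike.congr_fun e x)
  exact this

variable [Fintype F]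

noncomputable instance autFintype : Fintype (F ≃+* F) :=
  have : Finite (F ≃+* F) := Finite.of_injective (fun σ => (σ : F → F)) DFunLike.coe_injective
  Fintype.ofFinite _

variable [CharP F 2]

lemma zmod_cases (c : ZMod 2) : c = 0 ∨ c = 1 := by decide +revert

lemma card_aut [Algebra (ZMod 2) F] :
    Nat.card (F ≃+* F) = Module.finrank (ZMod 2) F := by
  rw [← IsGalois.card_aut_eq_finrank (ZMod 2) F]
  refine Nat.card_congr ⟨fun σ => AlgEquiv.ofRingEquiv (f := σ) fun x => ?_, fun σ => σ.toRingEquiv,
    fun σ => RingEquiv.ext fun _ => rfl, fun σ => AlgEquiv.ext fun _ => rfl⟩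
  rcases zmod_cases x with rfl | rfl <;> simp

/-- every additive map is a combination of automorphisms -/
theorem exists_sum_aut (f : F →+ F) :
    ∃ c : (F ≃+* F) → F, ∀ x, f x = ∑ σ, c σ * σ x := by
  classical
  let _ := ZMod.algebra F 2
  let Φ : ((F ≃+* F) → F) → (F →ₗ[ZMod 2] F) := fun c =>
    { toFun := fun x => ∑ σ, c σ * σ x
      map_add' := fun x y => by simp [mul_add, Finset.sum_add_distrib]
      map_smul' := fun a x => by rcases zmod_cases a with rfl | rfl <;> simp }
  have hinj : Function.Injective Φ := by
    intro c d e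
    funext σ
    have := Fintype.linearIndependent_iff.1 (aut_linearIndependent (F := F)) (fun σ => c σ - d σ) (by
      funext x
      have h := LinearMap.congr_fun e x
      simp only [Φ, LinearMap.coe_mk, AddHom.coe_mk] at h
      simp [sub_mul, Finset.sum_sub_distrib, h]) σ
    linear_combination this
  have : Finite (F →ₗ[ZMod 2] F) := Finite.of_injective (fun f => (f : F → F)) DFunLike.coe_injective
  have : Fintype (F →ₗ[ZMod 2] F) := Fintype.ofFinite _
  have hcard : Fintype.card ((F ≃+* F) → F) = Fintype.card (F →ₗ[ZMod 2] F) := by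
    rw [Fintype.card_fun, Module.card_eq_pow_finrank (K := ZMod 2) (V := F →ₗ[ZMod 2] F),
      Module.finrank_linearMap, Module.card_eq_pow_finrank (K := ZMod 2) (V := F),
      ← Nat.card_eq_fintype_card (α := F ≃+* F), card_aut, ← pow_mul]
  obtain ⟨c, hc⟩ := ((Fintype.bijective_iff_injective_and_card Φ).2 ⟨hinj, hcard⟩).2
    { toFun := f, map_add' := f.map_add,
      map_smul' := fun a x => by rcases zmod_cases a with rfl | rfl <;> simp }
  exact ⟨c, fun x => (LinearMap.congr_fun hc x).symm⟩

/-- every biadditive map is a combination of products of automorphisms -/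
theorem exists_sum_aut₂ (B : F →+ F →+ F) :
    ∃ c : (F ≃+* F) × (F ≃+* F) → F, ∀ x y, B x y = ∑ p, c p * (p.1 x * p.2 y) := by
  classical
  choose c hc using fun y : F => exists_sum_aut (B.flip y)
  have huniq : ∀ y z σ, c (y + z) σ = c y σ + c z σ := by
    intro y z σ
    have := Fintype.linearIndependent_iff.1 (aut_linearIndependent (F := F))
      (fun σ => c (y + z) σ - (c y σ + c z σ)) (by
        funext x
        have h1 := hc (y + z) x
        have h2 := hc y x
        have h3 := hc z x
        simp only [map_add, AddMonoidHom.add_apply] at h1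
        rw [h2, h3, ← Finset.sum_add_distrib] at h1
        simp [sub_mul, add_mul, Finset.sum_sub_distrib, ← h1]) σ
    linear_combination this
  choose d hd using fun σ => exists_sum_aut (AddMonoidHom.mk' (fun y => c y σ) (fun y z => huniq y z σ))
  refine ⟨fun p => d p.1 p.2, fun x y => ?_⟩
  have h := hc y x
  rw [AddMonoidHom.flip_apply] at h
  rw [h, Fintype.sum_prod_type]
  refine Finset.sum_congr rfl fun σ _ => ?_
  have := hd σ y
  simp only [AddMonoidHom.mk'_apply] at this
  rw [this, Finset.sum_mul]
  exact Finset.sum_congr rfl fun τ _ => by ring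

/-- the functions `x ↦ σ x * τ x` span the products of additive maps -/
lemma mul_mem_span (f g : F →+ F) : (fun x => f x * g x) ∈
    Submodule.span F (Set.range fun p : (F ≃+* F) × (F ≃+* F) => fun x => p.1 x * p.2 x) := by
  obtain ⟨c, hc⟩ := exists_sum_aut f
  obtain ⟨d, hd⟩ := exists_sum_aut g
  have e : (fun x => f x * g x) =
      ∑ p : (F ≃+* F) × (F ≃+* F), (c p.1 * d p.2) • (fun x => p.1 x * p.2 x) := by
    funext x
    rw [hc, hd, Finset.sum_apply, Fintype.sum_prod_type, Finset.sum_mul_sum]
    refine Finset.sum_congr rfl fun σ _ => Finset.sum_congr rfl fun τ _ => ?_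
    simp only [Pi.smul_apply, smul_eq_mul]
    ring
  rw [e]
  exact Submodule.sum_mem _ fun p _ => Submodule.smul_mem _ _ (Submodule.subset_span ⟨p, rfl⟩)

/-- every quadratic map is a combination of products of automorphisms -/
theorem exists_sum_aut_quadratic (q : F → F)
    (hq : ∀ x y z : F, q (x + y + z) + q (x + y) + q (x + z) + q (y + z) + q x + q y + q z = 0) :
    ∃ c : (F ≃+* F) × (F ≃+* F) → F, ∀ x : F, q x = ∑ p, c p * (p.1 x * p.2 x) := by
  classical
  let _ := ZMod.algebra F 2
  have h2 : ∀ a : F, a + a = 0 := CharTwo.add_self_eq_zero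
  have q0 : q 0 = 0 := by
    have := hq 0 0 0
    simp only [add_zero] at this
    linear_combination this - 3 * h2 (q 0)
  set B : F → F → F := fun x y => q (x + y) + q x + q y
  have hB : ∀ x y z, B (x + y) z = B x z + B y z := fun x y z => by
    have := hq x y z
    simp only [B]
    linear_combination this - h2 (q (x + z) + q (y + z) + q x + q y + q z)
  let b := Module.finBasis (ZMod 2) F
  let φ : Fin (Module.finrank (ZMod 2) F) → F →+ F := fun i =>
    (algebraMap (ZMod 2) F).toAddMonoidHom.comp (b.coord i).toAddMonoidHom
  set W := Submodule.span F (Set.range fun p : (F ≃+* F) × (F ≃+* F) => fun x => p.1 x * p.2 x)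
  have key : ∀ S : Finset (Fin (Module.finrank (ZMod 2) F)),
      (fun x => q (∑ i ∈ S, φ i x * b i)) ∈ W := by
    intro S
    induction S using Finset.induction_on with
    | empty => simp only [Finset.sum_empty, q0]; exact W.zero_mem
    | insert a S ha ih =>
      let T : F →+ F := ∑ i ∈ S, (AddMonoidHom.mulRight (b i)).comp (φ i)
      have hT : ∀ x, T x = ∑ i ∈ S, φ i x * b i := fun x => by
        simp [T, AddMonoidHom.finset_sum_apply]
      let ψ : F →+ F := AddMonoidHom.mk' (fun x => B (T x) (b a)) (fun x y => by
        simp only [map_add]; exact hB _ _ _)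
      have e : (fun x => q (∑ i ∈ insert a S, φ i x * b i)) =
          (fun x => q (∑ i ∈ S, φ i x * b i)) + q (b a) • (fun x => φ a x * φ a x) +
            (fun x => φ a x * ψ x) := by
        funext x
        simp only [Finset.sum_insert ha, Pi.add_apply, Pi.smul_apply, smul_eq_mul, ← hT]
        show _ = _ + _ + φ a x * B (T x) (b a)
        rcases zmod_cases (b.coord a x) with h0 | h1
        · have : φ a x = 0 := by simp only [φ, AddMonoidHom.comp_apply]; simp [h0]
          simp [this]
        · have : φ a x = 1 := by simp only [φ, AddMonoidHom.comp_apply]; simp [h1]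
          rw [this]
          simp only [B, one_mul, mul_one, add_comm (b a) (T x)]
          linear_combination -(h2 (q (T x) + q (b a)))
      rw [e]
      exact W.add_mem (W.add_mem ih (W.smul_mem _ (mul_mem_span _ _))) (mul_mem_span _ _)
  have hid : ∀ x, ∑ i, φ i x * b i = x := fun x => by
    conv_rhs => rw [← b.sum_repr x]
    refine Finset.sum_congr rfl fun i _ => ?_
    simp [φ, Algebra.smul_def]
  have := key Finset.univ
  simp only [hid] at this
  obtain ⟨c, hc⟩ := (Submodule.mem_span_range_iff_exists_fun F).1 this
  exact ⟨c, fun x => by rw [← congrFun hc x]; simp⟩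

end CfsgLib.Chev.Field
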